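import Groth.Agent.QcMono49.Space

/-!
# Quasi-compactness of morphisms to Noetherian schemes by Noetherian induction
-/

set_option autoImplicit false
set_option backward.isDefEq.respectTransparency false
set_option backward.isDefEq.respectTransparency.types false
set_option linter.unusedVariables false

universe u

open CategoryTheory CategoryTheory.Limits Opposite AlgebraicGeometry AlgSp Groth.Agent.AlgSpLib Topology
  Groth.Agent.AlgStLib Groth.Agent.QcMono49

namespace Groth.Agent.DiagQc49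

variable {S : Scheme.{u}} {F : Sp S} {V : Over S}

/-- Compactness of the preimage of small open subsets of integral subschemes with dense image. -/
def GenericallyCompact (a : F ⟶ (yon S).obj V) : Prop :=
  ∀ (A : Type u) [CommRing A] [IsDomain A] (k : Spec (CommRingCat.of A) ⟶ V.left) [Mono k],
    Dense {t : ↥(Spec (CommRingCat.of A)) | k t ∈ Points.toScheme V '' Set.range (Points.map a)} →
    ∃ O : (Spec (CommRingCat.of A)).Opens, (O : Set ↥(Spec (CommRingCat.of A))).Nonempty ∧
      ∀ g : A, (∀ p : PrimeSpectrum A, g ∉ p.asIdeal → p ∈ O) →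
        IsCompact (pre a (k '' {p : PrimeSpectrum A | g ∉ p.asIdeal}))

theorem isCompact_pre (a : F ⟶ (yon S).obj V) (hd : GenericallyCompact a) [IsLocallyNoetherian V.left]
    {O : V.left.Opens} (hO : IsAffineOpen O) (I : Ideal Γ(V.left, O)) :
    IsCompact (pre a (hO.fromSpec '' PrimeSpectrum.zeroLocus (I : Set Γ(V.left, O)))) := by
  have : IsNoetherianRing Γ(V.left, O) := IsLocallyNoetherian.component_noetherian ⟨O, hO⟩
  induction I using WellFoundedGT.induction with
  | _ I ih =>
    let pI : Set Γ(V.left, O) → Set (Points F) := fun T => pre a (hO.fromSpec '' PrimeSpectrum.zeroLocus T)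
    have hgt : ∀ x, x ∉ I → I < I ⊔ Ideal.span {x} := fun x hx =>
      lt_of_le_of_ne le_sup_left fun h => hx (h ▸ Ideal.mem_sup_right (Ideal.mem_span_singleton_self x))
    have hz : ∀ x, PrimeSpectrum.zeroLocus ((I ⊔ Ideal.span {x} : Ideal _) : Set Γ(V.left, O)) =
        PrimeSpectrum.zeroLocus (I : Set Γ(V.left, O)) ∩ PrimeSpectrum.zeroLocus {x} := fun x => by
      rw [PrimeSpectrum.zeroLocus_sup, PrimeSpectrum.zeroLocus_span]
    by_cases htop : I = ⊤
    · subst htop
      convert isCompact_empty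
      ext x
      simp
    by_cases hpr : I.IsPrime
    swap
    · obtain ⟨x, hx, y, hy, hxy⟩ := (Ideal.not_isPrime_iff.1 hpr).resolve_left htop
      have e : pI (I : Set Γ(V.left, O)) =
          pI ((I ⊔ Ideal.span {x} : Ideal _) : Set Γ(V.left, O)) ∪
            pI ((I ⊔ Ideal.span {y} : Ideal _) : Set Γ(V.left, O)) := by
        simp only [pI, pre, hz]
        rw [← Set.setOf_or]
        ext z
        simp only [Set.mem_setOf_eq]
        constructor
        · rintro ⟨q, hq, e⟩
          rcases q.2.mem_or_mem (hq hxy) with h | h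
          · exact Or.inl ⟨q, ⟨hq, Set.singleton_subset_iff.2 h⟩, e⟩
          · exact Or.inr ⟨q, ⟨hq, Set.singleton_subset_iff.2 h⟩, e⟩
        · rintro (⟨q, hq, e⟩ | ⟨q, hq, e⟩) <;> exact ⟨q, hq.1, e⟩
      show IsCompact (pI (I : Set Γ(V.left, O)))
      rw [e]
      exact (ih _ (hgt x hx)).union (ih _ (hgt y hy))
    let A : Type u := Γ(V.left, O) ⧸ I
    let π : CommRingCat.of Γ(V.left, O) ⟶ CommRingCat.of A := CommRingCat.ofHom (Ideal.Quotient.mk I)
    let k : Spec (CommRingCat.of A) ⟶ V.left := Spec.map π ≫ hO.fromSpec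
    have hπ : ∀ q : PrimeSpectrum Γ(V.left, O), q ∈ PrimeSpectrum.zeroLocus (I : Set Γ(V.left, O)) →
        ∃ p : PrimeSpectrum A, Spec.map π p = q := fun q hq => by
      have h : q ∈ Set.range (PrimeSpectrum.comap (Ideal.Quotient.mk I)) := by
        rw [range_comap_of_surjective _ _ Ideal.Quotient.mk_surjective, Ideal.mk_ker]
        exact hq
      exact h
    let D : Set ↥(Spec (CommRingCat.of A)) := {p | k p ∈ Points.toScheme V '' Set.range (Points.map a)}
    -- cutting off a basic open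
    have cut : ∀ f : Γ(V.left, O), f ∉ I → ∀ K : Set (Points F), IsCompact K →
        (∀ x, ∀ p : PrimeSpectrum A, Ideal.Quotient.mk I f ∉ p.asIdeal →
          Points.toScheme V (Points.map a x) = k p → x ∈ K) →
        K ⊆ pI (I : Set Γ(V.left, O)) → IsCompact (pI (I : Set Γ(V.left, O))) := by
      intro f hf K hK hmem hsub
      have e : pI (I : Set Γ(V.left, O)) = K ∪ pI ((I ⊔ Ideal.span {f} : Ideal _) : Set Γ(V.left, O)) := by
        refine Set.Subset.antisymm ?_ (Set.union_subset hsub ?_)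
        · rintro x ⟨q, hq, e⟩
          by_cases hfq : f ∈ q.asIdeal
          · exact Or.inr ⟨q, by rw [hz]; exact ⟨hq, Set.singleton_subset_iff.2 hfq⟩, e⟩
          · obtain ⟨p, rfl⟩ := hπ q hq
            refine Or.inl (hmem x p hfq ?_)
            rw [← e]
            exact (Scheme.Hom.comp_apply (Spec.map π) hO.fromSpec p).symm
        · rintro x ⟨q, hq, e⟩
          rw [hz] at hq
          exact ⟨q, hq.1, e⟩
      rw [e]
      exact hK.union (ih _ (hgt f hf))
    have hbasic : ∀ U : (Spec (CommRingCat.of A)).Opens, (U : Set ↥(Spec (CommRingCat.of A))).Nonempty →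
        ∃ f : Γ(V.left, O), f ∉ I ∧ ∀ p : PrimeSpectrum A, Ideal.Quotient.mk I f ∉ p.asIdeal → p ∈ U := by
      rintro U ⟨p, hp⟩
      obtain ⟨_, ⟨g, rfl⟩, hpg, hgU⟩ :=
        PrimeSpectrum.isTopologicalBasis_basic_opens.exists_subset_of_mem_open (show p ∈ (U : Set _) from hp) U.2
      obtain ⟨f, rfl⟩ := Ideal.Quotient.mk_surjective g
      exact ⟨f, fun h => hpg (by simp [Ideal.Quotient.eq_zero_iff_mem.2 h]), fun q hq => hgU hq⟩
    have : IsDomain A := Ideal.Quotient.isDomain I
    have : Mono (Spec.map π) :=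
      have : IsClosedImmersion (Spec.map π) := IsClosedImmersion.spec_of_surjective π Ideal.Quotient.mk_surjective
      inferInstance
    have : Mono k := mono_comp _ _
    by_cases hD : Dense D
    · obtain ⟨U, hU, hUc⟩ := hd A k hD
      obtain ⟨f, hf, hfU⟩ := hbasic U hU
      refine cut f hf _ (hUc (Ideal.Quotient.mk I f) hfU) (fun x p hp e => ⟨p, hp, e.symm⟩) ?_
      rintro x ⟨p, -, e⟩
      refine ⟨Spec.map π p, ?_, ?_⟩
      · intro i hi
        show Ideal.Quotient.mk I i ∈ p.asIdeal
        rw [Ideal.Quotient.eq_zero_iff_mem.2 hi]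
        exact Submodule.zero_mem _
      · rw [← e]
        exact (Scheme.Hom.comp_apply _ _ _).symm
    · rw [dense_iff_inter_open] at hD
      push_neg at hD
      obtain ⟨W, hW, hWne, hWD⟩ := hD
      obtain ⟨f, hf, hfW⟩ := hbasic ⟨W, hW⟩ hWne
      refine cut f hf ∅ isCompact_empty (fun x p hp e => ?_) (Set.empty_subset _)
      exact absurd (⟨Points.map a x, ⟨x, rfl⟩, e⟩ : p ∈ D)
        fun h => Set.eq_empty_iff_forall_notMem.1 hWD p ⟨hfW p hp, h⟩

/-- A generically compact morphism to a locally Noetherian scheme is quasi-compact. -/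
theorem isQuasiCompactMor (hF : IsAlgSpace F) (a : F ⟶ (yon S).obj V)
    (hd : GenericallyCompact a) [IsLocallyNoetherian V.left] :
    IsQuasiCompactMor a := by
  obtain ⟨T, p, hp, hps⟩ := hF.atlas
  obtain ⟨c, hc⟩ := (yon S).map_surjective (p ≫ a)
  refine AlgSpPts.isQuasiCompactMor_of_affine hF (IsAlgSpace.yon_obj V) fun Z hZ g P fst snd sq => ?_
  have hP : IsAlgSpace P := isAlgSpace_of_isPullback sq hF (IsAlgSpace.yon_obj Z) (IsAlgSpace.yon_obj V)
  refine (AlgSpPts.isQuasiCompactSp_iff hP).2 ⟨?_⟩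
  obtain ⟨g₀, rfl⟩ := (yon S).map_surjective g
  have : CompactSpace ↥Z.left := inferInstance
  have hcov : ∀ z : Z.left, ∃ O : V.left.affineOpens, g₀.left z ∈ O.1 := fun z => by
    obtain ⟨W, hW, hz, -⟩ := exists_isAffineOpen_mem_and_subset (U := (⊤ : V.left.Opens)) (x := g₀.left z) trivial
    exact ⟨⟨W, hW⟩, hz⟩
  choose O hO using hcov
  obtain ⟨t, ht⟩ := isCompact_univ.elim_finite_subcover (fun z => g₀.left ⁻¹' (O z).1.1)
    (fun z => (O z).1.isOpen.preimage g₀.left.continuous) fun z _ => Set.mem_iUnion.2 ⟨z, hO z⟩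
  let C : Set ↥V.left := ⋃ z ∈ t, ((O z).1 : Set ↥V.left)
  have hC : IsCompact (pre a C) := by
    have : pre a C = ⋃ z ∈ t, pre a ((O z).1 : Set ↥V.left) := by ext x; simp [C, pre]
    rw [this]
    refine t.isCompact_biUnion fun z _ => ?_
    have h := isCompact_pre a hd (O z).2 ⊥
    rwa [show PrimeSpectrum.zeroLocus ((⊥ : Ideal Γ(V.left, (O z).1)) : Set Γ(V.left, (O z).1)) = Set.univ from
      PrimeSpectrum.zeroLocus_bot, Set.image_univ, (O z).2.range_fromSpec] at h
  -- a quasi-compact piece of the atlas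
  have hcovT : ∀ x : Points F, ∃ W : T.left.affineOpens, x ∈ Points.ofPt p '' (W : Set ↥T.left) := fun x => by
    obtain ⟨u, rfl⟩ := surjective_ofPt hps x
    obtain ⟨W, hW, hu, -⟩ := exists_isAffineOpen_mem_and_subset (U := (⊤ : T.left.Opens)) (x := u) trivial
    exact ⟨⟨W, hW⟩, u, hu, rfl⟩
  choose W hW using hcovT
  obtain ⟨t', ht'⟩ := hC.elim_finite_subcover (fun x => Points.ofPt p '' (W x : Set ↥T.left))
    (fun x => isOpenMap_ofPt hp _ (W x).1.isOpen) fun x _ => Set.mem_iUnion.2 ⟨x, hW x⟩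
  let O' : T.left.Opens := ⨆ x ∈ t', (W x).1
  have hO' : CompactSpace ↥O'.toScheme := isCompact_iff_compactSpace.1 (by
    simp only [O', TopologicalSpace.Opens.coe_iSup]
    exact t'.isCompact_biUnion fun x _ => (W x).2.isCompact)
  let o : Over.mk (O'.ι ≫ T.hom) ⟶ T := Over.homMk O'.ι rfl
  have : CompactSpace ↥(Over.mk (O'.ι ≫ T.hom)).left := hO'
  have : QuasiCompact (o ≫ c).left := quasiCompact_of_compactSpace _
  let R : Over S := pullback (o ≫ c) g₀
  have sqR : IsPullback ((yon S).map (pullback.fst (o ≫ c) g₀)) ((yon S).map (pullback.snd (o ≫ c) g₀))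
      (((yon S).map o ≫ p) ≫ a) ((yon S).map g₀) := by
    rw [Category.assoc, ← hc, ← Functor.map_comp]
    exact (IsPullback.of_hasPullback (o ≫ c) g₀).map (yon S)
  let r : (yon S).obj R ⟶ P := sq.lift ((yon S).map (pullback.fst (o ≫ c) g₀) ≫ (yon S).map o ≫ p)
    ((yon S).map (pullback.snd (o ≫ c) g₀)) (by rw [Category.assoc]; exact sqR.w)
  have sqr : IsPullback ((yon S).map (pullback.fst (o ≫ c) g₀)) r ((yon S).map o ≫ p) fst :=
    IsPullback.of_bot (v₂₁ := snd) (v₂₂ := a) (h₃₁ := (yon S).map g₀) (by rw [sq.lift_snd]; exact sqR)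
      (sq.lift_fst _ _ _).symm sq
  have sqL : IsPullback (pullback.fst (o ≫ c) g₀).left (pullback.snd (o ≫ c) g₀).left (o ≫ c).left g₀.left :=
    (IsPullback.of_hasPullback (o ≫ c) g₀).map (Over.forget S)
  have : QuasiCompact (pullback.snd (o ≫ c) g₀).left :=
    MorphismProperty.of_isPullback (P := @QuasiCompact) sqL ‹QuasiCompact (o ≫ c).left›
  have : CompactSpace ↥R.left := QuasiCompact.compactSpace_of_compactSpace (pullback.snd (o ≫ c) g₀).left
  suffices hsurj : Function.Surjective (Points.ofPt r) by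
    rw [← hsurj.range_eq]
    exact isCompact_range (Points.continuous_ofPt r)
  intro y
  have hx : Points.map fst y ∈ pre a C := by
    obtain ⟨z', hz', hzz⟩ := Set.mem_iUnion₂.1 (ht (Set.mem_univ (Points.toScheme Z (Points.map snd y))))
    refine Set.mem_iUnion₂.2 ⟨z', hz', ?_⟩
    have hxz : Points.toScheme V (Points.map a (Points.map fst y)) =
        g₀.left (Points.toScheme Z (Points.map snd y)) := by
      rw [← Points.map_comp, sq.w, Points.map_comp, ← Points.toScheme_ofPt g₀, Points.ofPt_eq_map_ofScheme,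
        Points.ofScheme_toScheme]
    rw [hxz]
    exact hzz
  obtain ⟨x', hx', u, hu, hux⟩ := Set.mem_iUnion₂.1 (ht' hx)
  have huO : u ∈ O' := (le_iSup₂ (f := fun x (_ : x ∈ t') => (W x).1) x' hx') hu
  obtain ⟨w, -, hw⟩ := exists_point_of_isPullback sqr (x := Points.ofScheme (Over.mk (O'.ι ≫ T.hom)) ⟨u, huO⟩) (y := y) (by
    rw [← Points.ofPt_eq_map_ofScheme, ofPt_comp]
    exact hux)
  obtain ⟨v, rfl⟩ := (Points.schemeEquiv R).surjective w
  exact ⟨v, (Points.ofPt_eq_map_ofScheme r v).trans hw⟩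

end Groth.Agent.DiagQc49
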