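import Groth.Agent.DiagQc49.Space
import Groth.Agent.ImmMono49.Stack
import Groth.Agent.AlgStLib.DiagCover
import Groth.Agent.AlgStLib.Diag
import Groth.Agent.FibBase.DiagRep
import Mathlib.CategoryTheory.Limits.Constructions.Over.Products

/-!
# Quasi-compactness of the diagonal from automorphisms and generic isomorphisms
-/

set_option autoImplicit false
set_option backward.isDefEq.respectTransparency false
set_option backward.isDefEq.respectTransparency.types false
set_option linter.unusedVariables false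

universe u

open CategoryTheory CategoryTheory.Functor CategoryTheory.Limits Opposite AlgebraicGeometry AlgSp Topology
  Groth.Agent.FibBase Groth.Agent.AlgSpLib Groth.Agent.AlgStLib

namespace Groth.Agent.DiagQc49

variable {S : Scheme.{u}} {𝒳 : AlgSt.Cat S}

local notation "K₀" => Scheme.fppfPrecoverage

theorem locEssSurj_of_isEquivOver {𝒜 ℬ : AlgSt.Cat S} {e : 𝒜 ⥤ᵇ ℬ} (he : FibCat.IsEquivOver e) : LocEssSurj e :=
  fun U y => by
    obtain ⟨G, -, -, ⟨i⟩⟩ := isEquivOver_inv he
    exact ⟨⊤, GrothendieckTopology.top_mem _ U, fun W h _ =>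
      ⟨BasedFunctor.comp (BasedFunctor.comp (AlgSt.overMap h) y) G,
        ⟨whiskerLeftIso (BasedFunctor.comp (AlgSt.overMap h) y) i⟩⟩⟩

/-- An atlas gives a cover of the pairs of objects by the square of the atlas. -/
theorem exists_pair_atlas {V : Over S} (p : FibCat.overCat V ⥤ᵇ 𝒳) (hp : LocEssSurj p) :
    ∃ w : FibCat.overCat (V ⨯ V) ⥤ᵇ FibCat.fp (FibCat.toSelf 𝒳) (FibCat.toSelf 𝒳), LocEssSurj w := by
  obtain ⟨c, hc⟩ : ∃ c : FibCat.overCat (V ⨯ V) ⥤ᵇ FibCat.fp (BasedFunctor.comp p (FibCat.toSelf 𝒳))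
      (BasedFunctor.comp p (FibCat.toSelf 𝒳)), FibCat.IsEquivOver c := by
    rw [comp_toSelf p]
    exact ⟨sliceProd V V, sliceProd_isEquivOver V V⟩
  exact ⟨BasedFunctor.comp c (pairMap p p (FibCat.toSelf 𝒳)),
    locEssSurj_comp (locEssSurj_of_isEquivOver hc) (locEssSurj_pairMap (FibCat.toSelf 𝒳) hp hp)⟩

/-- Functors to pairs of objects are isomorphic if both components are. -/
theorem nonempty_iso_pair {U : Over S}
    (z z' : FibCat.overCat U ⥤ᵇ FibCat.fp (FibCat.toSelf 𝒳) (FibCat.toSelf 𝒳))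
    (i₁ : BasedFunctor.comp z (FibCat.fpFst _ _) ≅ BasedFunctor.comp z' (FibCat.fpFst _ _))
    (i₂ : BasedFunctor.comp z (FibCat.fpSnd _ _) ≅ BasedFunctor.comp z' (FibCat.fpSnd _ _)) :
    Nonempty (z ≅ z') :=
  ⟨BasedNatIso.mkNatIso
    (NatIso.ofComponents
      (fun x => fpIsoMk (x := z.obj x) (y := z'.obj x) (isoApp i₁ x) (isoApp i₂ x)
        (self_w (x := z.obj x) (y := z'.obj x) _ _ x.left (isoApp_lift i₁ rfl) (isoApp_lift i₂ rfl)))
      (fun {x x'} φ => by
        refine ObjectProperty.hom_ext _ (CategoricalPullback.hom_ext ?_ ?_)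
        · exact natural i₁ φ
        · exact natural i₂ φ))
    (fun x => fp_isHomLift (F := FibCat.toSelf 𝒳) (G := FibCat.toSelf 𝒳) (𝟙 ((FibCat.overCat U).p.obj x)) _
      (h := isoApp_lift i₁ (a := x) rfl))⟩

theorem diag_isQuasiCompactMor [IsLocallyNoetherian S] (h𝒳 : AlgSt.IsAlgStack K₀ 𝒳)
    (hlfp : ∀ (U : Over S) (x : FibCat.overCat U ⥤ᵇ 𝒳),
      AlgSt.RepByAlgSpWith (AlgSp.LocP @Smooth) x → LocallyOfFinitePresentation U.hom)
    (hi : ∀ (U : Over S), IsAffine U.left → ∀ (x : FibCat.overCat U ⥤ᵇ 𝒳),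
      ∃ (F : AlgSp.Space S) (e : AlgSt.ofSp F.obj ⥤ᵇ FibCat.fp (FibCat.fpLift x x (Iso.refl _)) (FibCat.diag (FibCat.toSelf 𝒳))),
        FibCat.IsEquivOver e ∧
          AlgSp.IsQuasiCompactMor (AlgSt.spMapOfOver (BasedFunctor.comp e (FibCat.fpFst _ _))))
    (hii : ∀ (U : Over S), IsAffine U.left → IsIntegral U.left → ∀ (x y : FibCat.overCat U ⥤ᵇ 𝒳)
      (D : Set ↥U.left), Dense D →
      (∀ t ∈ D, ∃ (L : Type u) (_ : Field L) (g : Spec (CommRingCat.of L) ⟶ U.left), Set.range g.base = {t} ∧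
        Nonempty (BasedFunctor.comp (AlgSt.overMap (Over.homMk g rfl : Over.mk (g ≫ U.hom) ⟶ U)) x ≅
          BasedFunctor.comp (AlgSt.overMap (Over.homMk g rfl : Over.mk (g ≫ U.hom) ⟶ U)) y)) →
      ∃ V : U.left.Opens, Dense (V : Set ↥U.left) ∧
        Nonempty (BasedFunctor.comp (AlgSt.overMap (Over.homMk V.ι rfl : Over.mk (V.ι ≫ U.hom) ⟶ U)) x ≅
          BasedFunctor.comp (AlgSt.overMap (Over.homMk V.ι rfl : Over.mk (V.ι ≫ U.hom) ⟶ U)) y)) :
    AlgSt.RepByAlgSpWith AlgSp.IsQuasiCompactMor (FibCat.diag (FibCat.toSelf 𝒳)) := by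
  obtain ⟨V, p, hp, hp'⟩ := id h𝒳.atlas
  have : LocallyOfFinitePresentation V.hom := hlfp V p hp
  obtain ⟨w, hw⟩ := exists_pair_atlas p (locEssSurj_of_atlas hp hp')
  let T : Over S := V ⨯ V
  have : IsLocallyNoetherian V.left := LocallyOfFiniteType.isLocallyNoetherian V.hom
  have : IsLocallyNoetherian (pullback V.hom V.hom) :=
    LocallyOfFiniteType.isLocallyNoetherian (pullback.fst V.hom V.hom)
  have : IsLocallyNoetherian T.left :=
    isLocallyNoetherian_of_isOpenImmersion (CategoryTheory.Over.prodLeftIsoPullback (Y := V) (Z := V)).hom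
  obtain ⟨F, e, he⟩ := h𝒳.diag T w
  let Φ := BasedFunctor.comp e (FibCat.fpFst w (FibCat.diag (FibCat.toSelf 𝒳)))
  let b : F.obj ⟶ (yon S).obj T := AlgSt.spMapOfOver Φ
  have key : GenericallyCompact b := by
    intro A _ _ k _ hD
    let U₀ : Over S := Over.mk (k ≫ T.hom)
    let k' : U₀ ⟶ T := Over.homMk k rfl
    let x : FibCat.overCat U₀ ⥤ᵇ 𝒳 := BasedFunctor.comp (AlgSt.overMap k') (BasedFunctor.comp w (FibCat.fpFst _ _))
    let y : FibCat.overCat U₀ ⥤ᵇ 𝒳 := BasedFunctor.comp (AlgSt.overMap k') (BasedFunctor.comp w (FibCat.fpSnd _ _))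
    obtain ⟨O, hO, ⟨i⟩⟩ := hii U₀ (inferInstanceAs (IsAffine (Spec (CommRingCat.of A))))
      (inferInstanceAs (IsIntegral (Spec (CommRingCat.of A)))) x y _ hD fun t ht => by
        obtain ⟨_, ⟨z, rfl⟩, hz⟩ := ht
        obtain ⟨T', pT, hpT, hpTs⟩ := F.property.atlas
        obtain ⟨u, rfl⟩ := surjective_ofPt hpTs z
        obtain ⟨c, hc⟩ := (yon S).map_surjective (pT ≫ b)
        rw [Points.map_ofPt, ← hc, Points.toScheme_ofPt] at hz
        obtain ⟨l, hl⟩ := ImmMono49.exists_lift_field k (T'.left.fromSpecResidueField u ≫ c.left) ⟨t, hz.symm.trans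
          ((congrArg c.left (T'.left.fromSpecResidueField_apply u _)).symm.trans (Scheme.Hom.comp_apply _ _ _).symm)⟩
        let ι' : Over.mk (l ≫ U₀.hom) ⟶ U₀ := Over.homMk l rfl
        let m : Over.mk (l ≫ U₀.hom) ⟶ T' := Over.homMk (T'.left.fromSpecResidueField u) (by
          show _ ≫ T'.hom = l ≫ k ≫ T.hom
          rw [reassoc_of% hl, Over.w c])
        obtain ⟨yp, ⟨iy⟩⟩ := ImmMono49.exists_lift_of_map (e := e) k' ι' ((yon S).map m ≫ pT) (by
          show ((yon S).map m ≫ pT) ≫ b = _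
          rw [Category.assoc, ← hc, ← Functor.map_comp]
          exact congrArg (yon S).map (Over.OverMorphism.ext hl.symm))
        refine ⟨_, inferInstance, l, ?_, ⟨(whiskerRightIso iy (FibCat.fpFst _ _)).symm ≪≫
          whiskerRightIso iy (FibCat.fpSnd _ _)⟩⟩
        have hkl : ∀ r, l r = t := fun r => k.injective
          (((Scheme.Hom.comp_apply l k r).symm.trans (congrArg (fun q => q r) hl)).trans
            (((Scheme.Hom.comp_apply (T'.left.fromSpecResidueField u) c.left r).trans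
              (congrArg c.left (T'.left.fromSpecResidueField_apply u _))).trans hz))
        ext v
        refine ⟨?_, fun hv => ?_⟩
        · rintro ⟨r, rfl⟩
          exact hkl r
        · exact ⟨IsLocalRing.closedPoint _, (hkl _).trans (Set.mem_singleton_iff.1 hv).symm⟩
    refine ⟨O, (hO.nonempty_iff (X := ↥(Spec (CommRingCat.of A)))).2 inferInstance, fun g hg => ?_⟩
    let B : Type u := Localization.Away g
    let j₀ : Spec (CommRingCat.of B) ⟶ Spec (CommRingCat.of A) := Spec.map (CommRingCat.ofHom (algebraMap A B))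
    have hrange : Set.range j₀ = {p : PrimeSpectrum A | g ∉ p.asIdeal} :=
      (PrimeSpectrum.localization_away_comap_range B g).trans rfl
    have : IsOpenImmersion j₀ := IsOpenImmersion.of_isLocalization g
    let U₁ : Over S := Over.mk (j₀ ≫ U₀.hom)
    let jl : Spec (CommRingCat.of B) ⟶ O.toScheme := IsOpenImmersion.lift O.ι j₀ (by
      rw [Scheme.Opens.range_ι]
      exact fun p hp => hg p (hrange.le hp))
    let jo : U₁ ⟶ Over.mk (O.ι ≫ U₀.hom) := Over.homMk jl (by
      show jl ≫ O.ι ≫ U₀.hom = j₀ ≫ U₀.hom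
      rw [IsOpenImmersion.lift_fac_assoc])
    let ιO : Over.mk (O.ι ≫ U₀.hom) ⟶ U₀ := Over.homMk O.ι rfl
    let j : U₁ ⟶ U₀ := jo ≫ ιO
    let v : U₁ ⟶ T := j ≫ k'
    let x₁ := BasedFunctor.comp (AlgSt.overMap j) x
    let x' := BasedFunctor.comp (AlgSt.overMap j) y
    let ixy : x₁ ≅ x' := whiskerRightIso (overMapCompIso jo ιO).symm x ≪≫
      whiskerLeftIso (AlgSt.overMap jo) i ≪≫ whiskerRightIso (overMapCompIso jo ιO) y
    obtain ⟨iw⟩ := nonempty_iso_pair (FibCat.fpLift x₁ x₁ (Iso.refl _)) (BasedFunctor.comp (AlgSt.overMap v) w)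
      (whiskerRightIso (overMapCompIso j k') (BasedFunctor.comp w (FibCat.fpFst _ _)))
      (ixy ≪≫ whiskerRightIso (overMapCompIso j k') (BasedFunctor.comp w (FibCat.fpSnd _ _)))
    obtain ⟨F₁, e₁, he₁, hq⟩ := hi U₁ (inferInstanceAs (IsAffine (Spec (CommRingCat.of B)))) x₁
    have hq' : IsQuasiCompactMor (pullback.snd b ((yon S).map v)) :=
      property_pullback_of_repOver stableBC_isQuasiCompactMor v w F.property e he
        (repOver_congr iw ⟨F₁, e₁, he₁, hq⟩)
    have hU₁ := IsAlgSpace.yon_obj (S := S) U₁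
    have hP : IsAlgSpace (pullback b ((yon S).map v)) := isAlgSpace_pullback F.property hU₁ (IsAlgSpace.yon_obj T) b _
    have : CompactSpace ↥U₁.left := inferInstanceAs (CompactSpace ↥(Spec (CommRingCat.of B)))
    have : CompactSpace (Points (pullback b ((yon S).map v))) := (AlgSpPts.isQuasiCompactSp_iff hP).1
      (hq' hU₁ ((Groth.Agent.AlgSpPts.isQuasiCompactSp_yon_iff U₁).2 inferInstance) (𝟙 _) (𝟙 _) (pullback.snd b ((yon S).map v)) (IsPullback.of_horiz_isIso ⟨(Category.id_comp _).trans (Category.comp_id _).symm⟩))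
    have hvj : v.left = j₀ ≫ k := by
      show (jl ≫ O.ι) ≫ k = _
      rw [IsOpenImmersion.lift_fac]
    have hset : QcMono49.pre b (k '' {p : PrimeSpectrum A | g ∉ p.asIdeal}) =
        Set.range (Points.map (pullback.fst b ((yon S).map v))) := by
      ext z
      constructor
      · rintro ⟨q, hq, hz⟩
        obtain ⟨r, rfl⟩ := hrange.ge hq
        obtain ⟨z', hz', -⟩ := exists_point_of_isPullback (IsPullback.of_hasPullback b ((yon S).map v))
          (x := z) (y := Points.ofScheme U₁ r) (by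
            refine (Points.schemeEquiv T).symm.injective (hz.symm.trans ?_)
            show _ = Points.toScheme T (Points.map ((yon S).map v) (Points.ofScheme U₁ r))
            rw [← Points.ofPt_eq_map_ofScheme, Points.toScheme_ofPt, hvj]
            exact (Scheme.Hom.comp_apply _ _ _).symm)
        exact ⟨z', hz'⟩
      · rintro ⟨z', rfl⟩
        obtain ⟨r, hr⟩ := (Points.schemeEquiv U₁).surjective (Points.map (pullback.snd b ((yon S).map v)) z')
        refine ⟨j₀ r, hrange ▸ Set.mem_range_self r, ?_⟩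
        rw [← Points.map_comp, pullback.condition, Points.map_comp, ← hr]
        show _ = Points.toScheme T (Points.map ((yon S).map v) (Points.ofScheme U₁ r))
        rw [← Points.ofPt_eq_map_ofScheme, Points.toScheme_ofPt, hvj]
        exact (Scheme.Hom.comp_apply _ _ _).symm
    rw [hset]
    exact isCompact_range (Points.continuous_map _)
  have hq : IsQuasiCompactMor b := isQuasiCompactMor F.property b key
  exact repByAlgSpWith_of_locEssSurj stableBC_isQuasiCompactMor
    (isLocalOnBase_fppf_of_fpqc isLocalOnBase_fpqc_isQuasiCompactMor) h𝒳.diag hw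
    ((repByAlgSpWith_iff_of_square (f := FibCat.fpFst w (FibCat.diag (FibCat.toSelf 𝒳)))
      (f' := AlgSt.ofSpMap b) (a := e) (b := AlgSt.toOverCat T) he (isEquivOver_toOverCat T)
      (isoSpMapOfOver Φ).symm).2
      (repByAlgSpWith_ofSpMap stableBC_isQuasiCompactMor F.property (IsAlgSpace.yon_obj T) b hq))

end Groth.Agent.DiagQc49
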